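import Groth.Agent.Lib.FibModLocus10.Basic
import Groth.Agent.Lib.AssTensor3.Main
import Groth.Agent.Lib.NoEmbBC.Basic
import Groth.Agent.Lib.AssPts.Flat
import Groth.Agent.Lib.Ample.Product
import Groth.Agent.Lib.Euler.TensorSupport
import Groth.Agent.Lib.CurveModel.AmpleOfDimOne
import Groth.Agent.Lib.AffDom.PointDim
import Groth.Agent.Lib.AffDom.Over
import Groth.Agent.Lib.Misc6.NoethFibres
import Groth.Agent.S7589

/-!
# Associated points and extension of the base field
-/

set_option autoImplicit false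
set_option linter.all false
set_option backward.isDefEq.respectTransparency false
set_option maxHeartbeats 1000000

universe u

open CategoryTheory Limits AlgebraicGeometry IsLocalRing TopologicalSpace

noncomputable section

namespace GrothLib.FibModLocus10

theorem noEmbedded_structure_of_iso {A B : Scheme.{u}} (e : A ⟶ B) [IsIso e]
    (h : AssSch.NoEmbedded (Coh.structureModule B)) : AssSch.NoEmbedded (Coh.structureModule A) := by
  have key : ∀ a : A, Curv2.IsAssPoint (Coh.structureModule A) a → Curv2.IsAssPoint (Coh.structureModule B) (e a) := by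
    intro a ha
    rw [AssPts.isAssPoint_structure_iff] at ha ⊢
    have hb : Function.Bijective (e.stalkMap a).hom := ConcreteCategory.bijective_of_isIso (e.stalkMap a)
    exact (AssPts.semilinear_transport (e.stalkMap a).hom (e.stalkMap a).hom.toAddMonoidHom hb hb
      (fun c z => map_mul (e.stalkMap a).hom c z)).1.2 ha
  intro a ha a' ha' hsp
  exact e.isOpenEmbedding.injective (h (e a) (key a ha) (e a') (key a' ha') (hsp.map e.continuous))

/-- The maximal points of their fibres. -/
def IsMaxInFib {Z' Z : Scheme.{u}} (i : Z' ⟶ Z) (y : Z') : Prop :=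
  ∀ y' : Z', y' ⤳ y → i y' = i y → y' = y

section Square

variable {Z' Z : Scheme.{u}} {K K' : Type u} [Field K] [Field K'] {φ : K →+* K'}
  {g' : Z' ⟶ Spec (CommRingCat.of K')} {g : Z ⟶ Spec (CommRingCat.of K)} {i : Z' ⟶ Z}
  [LocallyOfFiniteType g] [QuasiCompact g] (sq : IsPullback i g' g (Spec.map (CommRingCat.ofHom φ)))

include sq

theorem isLocallyNoetherian_top : IsLocallyNoetherian Z' :=
  haveI : LocallyOfFiniteType g' := MorphismProperty.of_isPullback sq inferInstance
  LocallyOfFiniteType.isLocallyNoetherian g'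

theorem flat_map : Flat i := by
  haveI : Flat (Spec.map (CommRingCat.ofHom φ)) := by
    letI := φ.toAlgebra
    exact Flat.SpecMap_iff.2 (RingHom.flat_algebraMap_iff.2 (inferInstance : Module.Flat K K'))
  exact MorphismProperty.of_isPullback sq.flip inferInstance

theorem surjective_map : Surjective i := by
  haveI : Surjective (Spec.map (CommRingCat.ofHom φ)) :=
    ⟨fun p => ⟨(default : PrimeSpectrum K'), Subsingleton.elim (α := PrimeSpectrum K) _ _⟩⟩
  exact MorphismProperty.of_isPullback sq.flip inferInstance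

theorem exists_isMaxInFib (y : Z') : ∃ y₀ : Z', y₀ ⤳ y ∧ i y₀ = i y ∧ IsMaxInFib i y₀ := by
  haveI := isLocallyNoetherian_top sq
  haveI : QuasiCompact g' := MorphismProperty.of_isPullback sq inferInstance
  haveI : CompactSpace Z' := QuasiCompact.compactSpace_of_compactSpace g'
  haveI : IsNoetherian Z' := ⟨⟩
  haveI : QuasiSober ↥(⇑i ⁻¹' {i y}) := (i.fiberHomeo (i y)).symm.isClosedEmbedding.quasiSober
  haveI : NoetherianSpace ↥(⇑i ⁻¹' {i y}) := NoetherianSpace.set _
  obtain ⟨y₀, hy₀, hsp⟩ := CurveModel.exists_genericPoints_specializes (Y := ↥(⇑i ⁻¹' {i y})) ⟨y, rfl⟩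
  refine ⟨y₀.1, hsp.map continuous_subtype_val, y₀.2, fun y' h he => ?_⟩
  let q : ↥(⇑i ⁻¹' {i y}) := ⟨y', he.trans y₀.2⟩
  have hq : q ⤳ y₀ := (subtype_specializes_iff _ _).2 h
  have hcomp : closure {y₀} ∈ irreducibleComponents ↥(⇑i ⁻¹' {i y}) := hy₀
  have hle : closure ({y₀} : Set ↥(⇑i ⁻¹' {i y})) ⊆ closure {q} :=
    closure_minimal (Set.singleton_subset_iff.2 (specializes_iff_mem_closure.1 hq)) isClosed_closure
  have hq' : y₀ ⤳ q := specializes_iff_mem_closure.2
    (hcomp.2 isIrreducible_singleton.closure hle (subset_closure rfl))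
  exact congrArg Subtype.val (hq.antisymm hq').eq

theorem noEmbedded_fiber (x : Z) : AssSch.NoEmbedded (Coh.structureModule (i.fiber x)) := by
  letI := φ.toAlgebra
  let h := Z.fromSpecResidueField x ≫ g
  haveI : IsLocallyNoetherian (Spec (Z.residueField x)) := inferInstance
  let P := pullback h (Spec.map (CommRingCat.ofHom φ))
  let w : pullback.snd h (Spec.map (CommRingCat.ofHom φ)) ≫ Spec.map (CommRingCat.ofHom φ) =
      (pullback.fst h (Spec.map (CommRingCat.ofHom φ)) ≫ Z.fromSpecResidueField x) ≫ g := by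
    rw [Category.assoc]; exact pullback.condition.symm
  have hsq : IsPullback (i.fiberToSpecResidueField x) (i.fiberι x ≫ g') h (Spec.map (CommRingCat.ofHom φ)) :=
    ((IsPullback.of_hasPullback i (Z.fromSpecResidueField x)).flip.paste_vert sq)
  haveI := isLocallyNoetherian_top sq
  haveI : IsLocallyNoetherian (i.fiber x) := by
    let b := Spec.map (CommRingCat.ofHom φ)
    refine (Misc6.fibre_iff sq.flip x).2 ?_
    haveI : IsClosedImmersion (b.fiberι (g x)) := IsClosedImmersion.of_isPreimmersion _ (by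
      rw [b.range_fiberι]
      exact (isClosed_discrete ({g x} : Set (PrimeSpectrum K))).preimage b.continuous)
    exact LocallyOfFiniteType.isLocallyNoetherian (b.fiberι (g x))
  haveI : IsLocallyNoetherian (pullback h (Spec.map (CommRingCat.ofHom φ))) :=
    isLocallyNoetherian_of_isOpenImmersion hsq.isoPullback.inv
  refine noEmbedded_structure_of_iso hsq.isoPullback.hom
    ((NoEmbBC.noEmbedded_baseChange_iff (k := K) (K := K') h).1 fun a _ b _ _ => ?_)
  exact Subsingleton.elim (α := PrimeSpectrum (Z.residueField x)) _ _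

variable (G : Z.Modules) [G.IsQuasicoherent]

theorem mem_ass_pullback_iff (hG : CohB1.IsFP G) (y : Z') :
    y ∈ AssSch.Ass ((Scheme.Modules.pullback i).obj G) ↔ i y ∈ AssSch.Ass G ∧ IsMaxInFib i y := by
  haveI := isLocallyNoetherian_top sq
  haveI : IsLocallyNoetherian Z := LocallyOfFiniteType.isLocallyNoetherian g
  haveI : CompactSpace Z := QuasiCompact.compactSpace_of_compactSpace g
  haveI : IsNoetherian Z := ⟨⟩
  haveI := flat_map sq
  let O := Coh.structureModule Z'
  have hO : Coh.IsCoh O := Euler.isCoh_of_isInvertible Euler.isInvertible_structure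
  have hGc : Coh.IsCoh G := ⟨inferInstance, (QCoh.isFiniteType_iff_moduleFinite _).2 fun U hU => by
    haveI := FlatFP.finitePresentation_sections G hG hU
    infer_instance⟩
  have hflat : FlatMod.IsFlatOver i O := fun z => AssPts.isFlatOverAt_structure i z
  have he : AssSch.Ass (AssTensor3.pullTensor i G O) = AssSch.Ass ((Scheme.Modules.pullback i).obj G) :=
    AssPts.ass_congr (Euler.tFUnitIso ((Scheme.Modules.pullback i).obj G))
  rw [← he]
  have hsupp : ∀ z : Z', z ∈ CohB1.support O := fun z => by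
    obtain ⟨ε⟩ := AssPts.exists_stalk_unit_equiv z
    exact fun hs => not_subsingleton (Z'.presheaf.stalk z) (ε.toEquiv.subsingleton)
  have hback : ∀ z : Z', i z ∈ AssSch.Ass G → IsMaxInFib i z → z ∈ AssSch.Ass (AssTensor3.pullTensor i G O) := by
    intro z hz hmax
    obtain ⟨w, hw, hwz, hiw⟩ := AssTensor3.exists_ass_tensor_over (E := G) (F := O) hGc hO hflat (hsupp z) hz specializes_rfl
    exact hmax w hwz hiw ▸ hw
  refine ⟨fun hy => ?_, fun ⟨h1, h2⟩ => hback y h1 h2⟩
  have hiy := ((AssTensor3.ass_tensor_iff hflat y).1 hy).1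
  refine ⟨hiy, fun y' hy' hiy' => ?_⟩
  obtain ⟨y₀, hy₀, hiy₀, hmax⟩ := exists_isMaxInFib sq y'
  obtain ⟨w, hw⟩ : y ∈ Set.range (i.fiberι (i y)) := (i.range_fiberι (i y)).symm ▸ rfl
  obtain ⟨w₀, hw₀⟩ : y₀ ∈ Set.range (i.fiberι (i y)) := (i.range_fiberι (i y)).symm ▸ (hiy₀.trans hiy')
  obtain ⟨ε⟩ := Ample.nonempty_pullback_structureModule (i.fiberι (i y))
  have hass : ∀ v : i.fiber (i y), i.fiberι (i y) v ∈ AssSch.Ass (AssTensor3.pullTensor i G O) →
      v ∈ AssSch.Ass (Coh.structureModule (i.fiber (i y))) := fun v hv => by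
    rw [← AssPts.ass_congr ε]
    exact (AssTensor3.ass_fiber_iff hflat hiy v).2 hv
  have heq := noEmbedded_fiber sq (i y) w (hass w (hw.symm ▸ hy)) w₀
    (hass w₀ (hw₀.symm ▸ hback y₀ (by rw [hiy₀, hiy']; exact hiy) hmax))
    ((i.fiberι (i y)).isEmbedding.isInducing.specializes_iff.1 (by rw [hw, hw₀]; exact hy₀.trans hy'))
  have hyy₀ : y = y₀ := by rw [← hw, ← hw₀, heq]
  exact (hy'.antisymm (hyy₀ ▸ hy₀)).eq

/-- Absence of embedded points is insensitive to extension of the base field. -/
theorem noEmbedded_pullback_iff (hG : CohB1.IsFP G) :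
    AssSch.NoEmbedded ((Scheme.Modules.pullback i).obj G) ↔ AssSch.NoEmbedded G := by
  haveI := flat_map sq
  haveI := surjective_map sq
  refine ⟨fun h x hx x' hx' hsp => ?_, fun h y hy y' hy' hsp => ?_⟩
  · obtain ⟨y₁, hy₁⟩ := i.surjective x
    obtain ⟨y, -, hiy, hmax⟩ := exists_isMaxInFib sq y₁
    rw [hy₁] at hiy
    obtain ⟨y', hy'y, hiy'⟩ := Flat.generalizingMap i (hiy.symm ▸ hsp : x' ⤳ i y)
    obtain ⟨y₀, hy₀, hiy₀, hmax₀⟩ := exists_isMaxInFib sq y'
    have := h y ((mem_ass_pullback_iff sq G hG y).2 ⟨hiy.symm ▸ hx, hmax⟩) y₀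
      ((mem_ass_pullback_iff sq G hG y₀).2 ⟨by rw [hiy₀, hiy']; exact hx', hmax₀⟩) (hy₀.trans hy'y)
    rw [← hiy, this, hiy₀, hiy']
  · obtain ⟨h1, hmax⟩ := (mem_ass_pullback_iff sq G hG y).1 hy
    obtain ⟨h1', -⟩ := (mem_ass_pullback_iff sq G hG y').1 hy'
    exact (hmax y' hsp (h _ h1 _ h1' (hsp.map i.continuous)).symm).symm

/-- A maximal point of a fibre has a closure of the same dimension as its image. -/
theorem dim_closure_eq {y : Z'} (hmax : IsMaxInFib i y) :
    topologicalKrullDim ↥(closure ({y} : Set Z')) = topologicalKrullDim ↥(closure ({i y} : Set Z)) := by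
  letI := φ.toAlgebra
  letI : Z.Over (Spec (CommRingCat.of K)) := ⟨g⟩
  haveI : LocallyOfFiniteType (Z ↘ Spec (CommRingCat.of K)) := ‹LocallyOfFiniteType g›
  let π := pullback.fst g (Spec.map (CommRingCat.ofHom φ))
  let e := sq.isoPullback
  have heπ : e.hom ≫ π = i := sq.isoPullback_hom_fst
  let y₁ : Curv2.bc K Z K' := e.hom y
  have hπy : π y₁ = i y := by rw [← heπ]; rfl
  letI : (Curv2.bc K Z K').Over (Spec (CommRingCat.of K')) := ⟨Curv2.bcSnd K Z K'⟩
  haveI : LocallyOfFiniteType (Curv2.bcSnd K Z K') := MorphismProperty.pullback_snd _ _ ‹LocallyOfFiniteType g›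
  obtain ⟨a, hda, hta⟩ := AffDom.exists_dim_closure (K := K) g (π y₁)
  obtain ⟨a', hda', hta'⟩ := AffDom.exists_dim_closure (K := K') (Curv2.bcSnd K Z K') y₁
  have h1 : topologicalKrullDim ↥(closure ({y} : Set Z')) = topologicalKrullDim ↥(closure ({y₁} : Set (Curv2.bc K Z K'))) := by
    have := IsHomeomorph.topologicalKrullDim_eq _ ((e.hom.homeomorph.image (closure ({y} : Set Z'))).isHomeomorph)
    rw [this, e.hom.homeomorph.image_closure, Set.image_singleton]
    rfl
  rw [h1, hda', ← hπy, hda]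
  have key := (Groth.Agent.S7589.result K Z K' y₁ a a' ((AffDom.ptTrdeg_eq_trdeg K Z _).symm.trans hta)
    ((AffDom.ptTrdeg_eq_trdeg K' (Curv2.bc K Z K') y₁).symm.trans hta')).2
  have hq : ringKrullDim (↥((Curv2.bc K Z K').presheaf.stalk y₁) ⧸
      Ideal.map ((Curv2.bcFst K Z K').stalkMap y₁).hom (maximalIdeal ↥(Z.presheaf.stalk (Curv2.bcFst K Z K' y₁)))) = 0 := by
    let R := (Curv2.bc K Z K').presheaf.stalk y₁
    let J := Ideal.map ((Curv2.bcFst K Z K').stalkMap y₁).hom (maximalIdeal ↥(Z.presheaf.stalk (Curv2.bcFst K Z K' y₁)))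
    have hJ : J ≠ ⊤ := fun h => (maximalIdeal.isMaximal R).ne_top (top_le_iff.1 (h ▸ ((local_hom_TFAE ((Curv2.bcFst K Z K').stalkMap y₁).hom).out 0 2 rfl rfl).1 inferInstance))
    haveI : Nontrivial (R ⧸ J) := Ideal.Quotient.nontrivial_iff.2 hJ
    haveI : Ring.KrullDimLE 0 (R ⧸ J) := Ring.KrullDimLE.mk₀ fun Q hQ => by
      let P := Q.comap (Ideal.Quotient.mk J)
      haveI : P.IsPrime := Ideal.IsPrime.comap _
      have hJP : J ≤ P := fun a ha => by
        show Ideal.Quotient.mk J a ∈ Q
        rw [Ideal.Quotient.eq_zero_iff_mem.2 ha]; exact Q.zero_mem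
      let q : PrimeSpectrum R := ⟨P, inferInstance⟩
      have hcomap : PrimeSpectrum.comap ((Curv2.bcFst K Z K').stalkMap y₁).hom q = closedPoint _ :=
        PrimeSpectrum.ext (((maximalIdeal.isMaximal _).eq_of_le (Ideal.IsPrime.comap _).ne_top
          (Ideal.map_le_iff_le_comap.1 hJP)).symm)
      let w := (Curv2.bc K Z K').fromSpecStalk y₁ q
      have hw : π w = π y₁ := by
        show Curv2.bcFst K Z K' w = Curv2.bcFst K Z K' y₁
        rw [AssTensor3.map_fromSpecStalk, hcomap, Scheme.fromSpecStalk_closedPoint]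
      obtain ⟨w', hw'⟩ := e.hom.homeomorph.surjective w
      have hw'' : e.hom w' = w := hw'
      have hwy : w' = y := hmax w' (e.hom.homeomorph.isInducing.specializes_iff.1
        (show e.hom w' ⤳ e.hom y by rw [hw'']; exact AssTensor3.fromSpecStalk_specializes y₁ q))
        (by rw [← heπ, Scheme.Hom.comp_apply, Scheme.Hom.comp_apply, hw'']; exact hw)
      have hwcl : q = closedPoint R := by
        refine ((Curv2.bc K Z K').fromSpecStalk y₁).isEmbedding.injective ?_
        rw [Scheme.fromSpecStalk_closedPoint]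
        exact hw''.symm.trans (hwy ▸ rfl)
      have hPm : P = maximalIdeal R := congrArg PrimeSpectrum.asIdeal hwcl
      haveI : P.IsMaximal := hPm ▸ maximalIdeal.isMaximal R
      exact Ideal.map_comap_of_surjective _ Ideal.Quotient.mk_surjective Q ▸
        (Ideal.map_eq_top_or_isMaximal_of_surjective _ Ideal.Quotient.mk_surjective (inferInstance : P.IsMaximal)).resolve_left
          (by rw [Ideal.map_comap_of_surjective _ Ideal.Quotient.mk_surjective]; exact hQ.ne_top)
    exact ringKrullDimZero_iff_ringKrullDim_eq_zero.1 inferInstance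
  rw [hq, zero_add] at key
  exact key

end Square

end GrothLib.FibModLocus10
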