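import Groth.Agent.Lib.FibModLocus10.LocFree
import Groth.Agent.Lib.FibModLocus10.FieldExt
import Groth.Agent.Lib.FibPd.CompDims
import Groth.Agent.Lib.FlatFP.BaseChangeAt

/-!
# Loci defined by the associated points of the fibres
-/

set_option autoImplicit false
set_option linter.all false
set_option backward.isDefEq.respectTransparency false
set_option maxHeartbeats 1000000

universe u

open CategoryTheory Limits AlgebraicGeometry Topology Set

noncomputable section

namespace GrothLib.FibModLocus10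

/-- No embedded associated points. -/
def NoEmb : ∀ ⦃Z : Scheme.{u}⦄, Z.Modules → Prop := fun Z G => AssSch.NoEmbedded G

/-- The associated points have closures of dimension in `Φ`. -/
def AllDimIn (Φ : Set ℕ) : ∀ ⦃Z : Scheme.{u}⦄, Z.Modules → Prop := fun Z G =>
  ∀ z ∈ AssSch.Ass G, ∃ n ∈ Φ, topologicalKrullDim ↥(closure ({z} : Set Z)) = (n : WithBot ℕ∞)

/-- Some associated point which is not embedded has closure of dimension `n`. -/
def HasMinDim (n : ℕ) : ∀ ⦃Z : Scheme.{u}⦄, Z.Modules → Prop := fun Z G =>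
  ∃ z ∈ AssSch.Ass G, (∀ y ∈ AssSch.Ass G, y ⤳ z → y = z) ∧
    topologicalKrullDim ↥(closure ({z} : Set Z)) = (n : WithBot ℕ∞)

/-- Some associated point which is not embedded has closure of dimension in `Φ`. -/
def HasMinIn (Φ : Set ℕ) : ∀ ⦃Z : Scheme.{u}⦄, Z.Modules → Prop := fun Z G =>
  ∃ n ∈ Φ, HasMinDim n G

theorem isFieldStable_noEmb : IsFieldStable NoEmb.{u} := by
  refine ⟨fun e h => ?_, fun φ g' g i _ _ sq G _ hG => noEmbedded_pullback_iff sq G hG⟩
  show AssSch.NoEmbedded _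
  unfold AssSch.NoEmbedded
  rw [← AssPts.ass_congr e]
  exact h

theorem isFieldStable_allDimIn (Φ : Set ℕ) : IsFieldStable (AllDimIn.{u} Φ) := by
  refine ⟨fun e h => by unfold AllDimIn; rw [← AssPts.ass_congr e]; exact h, fun φ g' g i _ _ sq G _ hG => ?_⟩
  haveI := surjective_map sq
  refine ⟨fun h x hx => ?_, fun h y hy => ?_⟩
  · obtain ⟨y₁, hy₁⟩ := i.surjective x
    obtain ⟨y, -, hiy, hmax⟩ := exists_isMaxInFib sq y₁
    rw [hy₁] at hiy
    obtain ⟨n, hn, hd⟩ := h y ((mem_ass_pullback_iff sq G hG y).2 ⟨hiy.symm ▸ hx, hmax⟩)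
    exact ⟨n, hn, hiy ▸ (dim_closure_eq sq hmax).symm.trans hd⟩
  · obtain ⟨h1, hmax⟩ := (mem_ass_pullback_iff sq G hG y).1 hy
    obtain ⟨n, hn, hd⟩ := h _ h1
    exact ⟨n, hn, (dim_closure_eq sq hmax).trans hd⟩

theorem isFieldStable_hasMinDim (n : ℕ) : IsFieldStable (HasMinDim.{u} n) := by
  refine ⟨fun e h => by unfold HasMinDim; rw [← AssPts.ass_congr e]; exact h, fun φ g' g i _ _ sq G _ hG => ?_⟩
  haveI := flat_map sq
  haveI := surjective_map sq
  refine ⟨fun ⟨y, hy, hmin, hd⟩ => ?_, fun ⟨x, hx, hmin, hd⟩ => ?_⟩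
  · obtain ⟨h1, hmax⟩ := (mem_ass_pullback_iff sq G hG y).1 hy
    refine ⟨i y, h1, fun x' hx' hsp => ?_, (dim_closure_eq sq hmax).symm.trans hd⟩
    obtain ⟨y', hy', hiy'⟩ := Flat.generalizingMap i hsp
    obtain ⟨y₀, hy₀, hiy₀, hmax₀⟩ := exists_isMaxInFib sq y'
    have := hmin y₀ ((mem_ass_pullback_iff sq G hG y₀).2 ⟨by rw [hiy₀, hiy']; exact hx', hmax₀⟩) (hy₀.trans hy')
    rw [← this, hiy₀, hiy']
  · obtain ⟨y₁, hy₁⟩ := i.surjective x
    obtain ⟨y, -, hiy, hmax⟩ := exists_isMaxInFib sq y₁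
    rw [hy₁] at hiy
    subst hiy
    refine ⟨y, (mem_ass_pullback_iff sq G hG y).2 ⟨hx, hmax⟩, fun y' hy' hsp => ?_,
      (dim_closure_eq sq hmax).trans hd⟩
    exact hmax y' hsp (hmin _ ((mem_ass_pullback_iff sq G hG y').1 hy').1 (hsp.map i.continuous))

theorem isFieldStable_hasMinIn (Φ : Set ℕ) : IsFieldStable (HasMinIn.{u} Φ) :=
  ⟨fun e ⟨n, hn, h⟩ => ⟨n, hn, (isFieldStable_hasMinDim n).1 e h⟩,
    fun φ g' g i _ _ sq G _ hG => exists_congr fun n => and_congr_right fun _ =>
      (isFieldStable_hasMinDim n).2 φ g' g i sq G hG⟩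

section Flat

variable {X S : Scheme.{u}} [IsNoetherian S] (f : X ⟶ S) [LocallyOfFinitePresentation f] [QuasiCompact f]
  (F : X.Modules)

theorem isConstructible_image (s : Set X) (hs : IsOpen s) : IsConstructible (f '' sᶜ) := by
  haveI : IsLocallyNoetherian X := LocallyOfFiniteType.isLocallyNoetherian f
  haveI : CompactSpace X := QuasiCompact.compactSpace_of_compactSpace f
  haveI : IsNoetherian X := ⟨⟩
  exact f.isConstructible_image ((TopologicalSpace.NoetherianSpace.isCompact _).isConstructible hs).compl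

theorem locus_eq_compl_image (P : ∀ y, ↥(f.fiber y) → Prop) (Q : ∀ ⦃Z : Scheme.{u}⦄, Z.Modules → Prop)
    (hQ : ∀ y, Q ((Scheme.Modules.pullback (f.fiberι y)).obj F) ↔
      ∀ z ∈ AssSch.Ass ((Scheme.Modules.pullback (f.fiberι y)).obj F), P y z) :
    locus Q f F = (f '' {x : X | FibPd.AssThrough f F P x}ᶜ)ᶜ := by
  ext y
  show Q _ ↔ _
  rw [hQ, ← FibPd.forall_fiber_iff f F P y]
  let R : ∀ y, ↥(f.fiber y) → Prop := fun y x =>
    ∀ z ∈ AssSch.Ass ((Scheme.Modules.pullback (f.fiberι y)).obj F), x ∈ closure {z} → P y z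
  constructor
  · rintro h ⟨x, hx, rfl⟩
    exact hx (h (f.asFiber x))
  · intro h x
    by_contra hx
    exact h ⟨f.fiberι y x, fun hx' => hx ((FibPd.asFiber_iff f R y x).1 hx'), FibreFlat.fiberι_comp_apply f y x⟩

theorem locus_noEmb_eq : locus NoEmb f F = (f '' {x : X | FibPd.AssThrough f F (FibPd.NotEmbedded f F) x}ᶜ)ᶜ :=
  locus_eq_compl_image f F (FibPd.NotEmbedded f F) NoEmb fun y =>
    ⟨fun h z hz z' hz' hzz' => (h z hz z' hz' (specializes_iff_mem_closure.2 hzz')).symm,
      fun h z hz z' hz' hzz' => (h z hz z' hz' (specializes_iff_mem_closure.1 hzz')).symm⟩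

theorem isConstructible_noEmb (hF : CohB1.IsFP F) (hflat : FlatMod.IsFlatOver f F) :
    IsConstructible (locus NoEmb f F) := by
  rw [locus_noEmb_eq f F]
  exact (isConstructible_image f _ (FibPd.isOpen_noEmb_through f F hF hflat)).compl

theorem isConstructible_allDimIn (hF : CohB1.IsFP F) (hflat : FlatMod.IsFlatOver f F) (Φ : Set ℕ) :
    IsConstructible (locus (AllDimIn Φ) f F) := by
  rw [locus_eq_compl_image f F (FibPd.DimIn f Φ) (AllDimIn Φ) fun y => Iff.rfl]
  exact (isConstructible_image f _ (FibPd.isOpen_assDims_through f F hF hflat Φ)).compl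

omit [AlgebraicGeometry.IsNoetherian S] [QuasiCompact f] in
theorem hasMinDim_iff (hF : CohB1.IsFP F) (n : ℕ) (y : S) :
    HasMinDim n ((Scheme.Modules.pullback (f.fiberι y)).obj F) ↔
    ∃ C ∈ irreducibleComponents ↥{z : ↥(f.fiber y) | Nontrivial (((Scheme.Modules.pullback (f.fiberι y)).obj F).presheaf.stalk z)},
      topologicalKrullDim ↥C = (n : WithBot ℕ∞) := by
  constructor
  · rintro ⟨z, hz, hmin, hd⟩
    let T : Set ↥(f.fiber y) :=
      {z : ↥(f.fiber y) | Nontrivial (((Scheme.Modules.pullback (f.fiberι y)).obj F).presheaf.stalk z)}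
    let w : ↥T := ⟨z, FibPd.nontrivial_of_ass f y hz⟩
    have hC : irreducibleComponent w ∈ irreducibleComponents ↥T := irreducibleComponent_mem_irreducibleComponents w
    obtain ⟨η, hη, hdim, hgen, -⟩ := FibPd.exists_generic_ass f hF y hC
    have hzη : z ∈ closure ({η} : Set ↥(f.fiber y)) := hgen.symm.subset ⟨w, mem_irreducibleComponent, rfl⟩
    obtain rfl := hmin η hη (specializes_iff_mem_closure.2 hzη)
    exact ⟨_, hC, hdim.trans hd⟩
  · rintro ⟨C, hC, hd⟩
    obtain ⟨η, hη, hdim, -, huniq⟩ := FibPd.exists_generic_ass f hF y hC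
    exact ⟨η, hη, fun z hz hzη => huniq z hz (specializes_iff_mem_closure.1 hzη), hdim.symm.trans hd⟩

theorem locus_hasMinDim_eq (hF : CohB1.IsFP F) (n : ℕ) :
    locus (HasMinDim n) f F = f '' {x : X | Nontrivial (((Scheme.Modules.pullback (f.fiberι (f.base x))).obj F).presheaf.stalk (f.asFiber x)) ∧
      FibPd.AssThrough f F (FibPd.DimIn f {n}) x} := by
  let R : ∀ y, ↥(f.fiber y) → Prop := fun y z =>
    Nontrivial (((Scheme.Modules.pullback (f.fiberι y)).obj F).presheaf.stalk z) ∧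
      ∀ z' ∈ AssSch.Ass ((Scheme.Modules.pullback (f.fiberι y)).obj F), z ∈ closure {z'} → FibPd.DimIn f {n} y z'
  ext y
  show HasMinDim n _ ↔ _
  rw [hasMinDim_iff f F hF, FibPd.exists_component_dim_iff f hF]
  constructor
  · rintro ⟨z, hz⟩
    exact ⟨f.fiberι y z, (FibPd.asFiber_iff f R y z).2 hz, FibreFlat.fiberι_comp_apply f y z⟩
  · rintro ⟨x, hx, rfl⟩
    exact ⟨f.asFiber x, hx⟩

theorem isConstructible_hasMinIn (hF : CohB1.IsFP F) (hflat : FlatMod.IsFlatOver f F) (Φ : Set ℕ) :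
    IsConstructible (locus (HasMinIn Φ) f F) := by
  suffices h : IsOpen (locus (HasMinIn Φ) f F) from
    (TopologicalSpace.NoetherianSpace.isCompact _).isConstructible h
  have he : locus (HasMinIn Φ) f F = ⋃ n ∈ Φ, locus (HasMinDim n) f F := by
    ext y; simp [locus, HasMinIn]
  rw [he]
  refine isOpen_biUnion fun n _ => ?_
  rw [locus_hasMinDim_eq f F hF n]
  exact FibPd.isOpen_exists_dim f F hF hflat n

end Flat

theorem exists_locus_eq_of_flat {P : ∀ ⦃Z : Scheme.{u}⦄, Z.Modules → Prop} (hP : IsFieldStable P)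
    (hc : ∀ {X S : Scheme.{u}} [IsNoetherian S] (f : X ⟶ S) [LocallyOfFinitePresentation f] [QuasiCompact f]
      (F : X.Modules), CohB1.IsFP F → FlatMod.IsFlatOver f F → IsConstructible (locus P f F))
    {X S : Scheme.{u}} [IsIntegral S] [IsNoetherian S] (f : X ⟶ S) [LocallyOfFiniteType f] [QuasiCompact f]
    (F : X.Modules) [F.IsQuasicoherent] (hF : CohB1.IsFP F) :
    ∃ (U : S.Opens) (E : Set S), (U : Set S).Nonempty ∧ IsConstructible E ∧
      ∀ s ∈ U, (s ∈ locus P f F ↔ s ∈ E) := by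
  haveI : IsLocallyNoetherian X := LocallyOfFiniteType.isLocallyNoetherian f
  have hFT : CohB1.IsFT F := (QCoh.isFiniteType_iff_moduleFinite _).2 fun U hU => by
    haveI := FlatFP.finitePresentation_sections F hF hU
    infer_instance
  obtain ⟨U, hUne, hU⟩ := GenFree.exists_isFlatOverAt f F hFT
  haveI : IsLocallyNoetherian (U : Scheme.{u}) := inferInstance
  haveI : CompactSpace (U : Scheme.{u}) := isCompact_iff_compactSpace.1 (TopologicalSpace.NoetherianSpace.isCompact _)
  haveI : IsNoetherian (U : Scheme.{u}) := ⟨⟩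
  haveI : LocallyOfFinitePresentation (f ∣_ U) := MorphismProperty.of_isPullback (isPullback_morphismRestrict f U).flip inferInstance
  haveI : QuasiCompact (f ∣_ U) := MorphismProperty.of_isPullback (isPullback_morphismRestrict f U).flip inferInstance
  let FU := (Scheme.Modules.pullback (f ⁻¹ᵁ U).ι).obj F
  haveI := FittSheaf.isQuasicoherent_pullback (f ⁻¹ᵁ U).ι F
  have hsq : IsPullback (f ⁻¹ᵁ U).ι (f ∣_ U) f U.ι := (isPullback_morphismRestrict f U).flip
  have hflat : FlatMod.IsFlatOver (f ∣_ U) FU := fun x =>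
    FlatFP.isFlatOverAt_baseChange f (f ∣_ U) _ U.ι hsq F x (hU _ x.2)
  have hE := hc (f ∣_ U) FU (FittSheaf.isFP_pullback _ F hF) hflat
  haveI : IsNoetherian X := by
    haveI : CompactSpace X := QuasiCompact.compactSpace_of_compactSpace f
    exact ⟨⟩
  refine ⟨U, U.ι '' locus P (f ∣_ U) FU, hUne, U.ι.isConstructible_image hE, fun s hs => ?_⟩
  have key := mem_locus_iff hP hsq hF (Iso.refl FU) ⟨s, hs⟩
  exact ⟨fun h => ⟨⟨s, hs⟩, key.2 h, rfl⟩, fun ⟨t, ht, he⟩ => he ▸ (mem_locus_iff hP hsq hF (Iso.refl FU) t).1 ht⟩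

theorem isGeneric_of_flat {P : ∀ ⦃Z : Scheme.{u}⦄, Z.Modules → Prop} (hP : IsFieldStable P)
    (hc : ∀ {X S : Scheme.{u}} [IsNoetherian S] (f : X ⟶ S) [LocallyOfFinitePresentation f] [QuasiCompact f]
      (F : X.Modules), CohB1.IsFP F → FlatMod.IsFlatOver f F → IsConstructible (locus P f F)) :
    IsGeneric P ∧ IsGeneric (fun Z G => ¬ P (Z := Z) G) := by
  constructor
  · intro X S _ _ f _ _ F _ hF hη
    obtain ⟨U, E, hne, hE, h⟩ := exists_locus_eq_of_flat hP hc f F hF
    exact interior_nonempty_of_eq hne hE h hη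
  · intro X S _ _ f _ _ F _ hF hη
    obtain ⟨U, E, hne, hE, h⟩ := exists_locus_eq_of_flat hP hc f F hF
    exact interior_nonempty_of_eq hne hE.compl (fun s hs => not_congr (h s hs)) hη

section Result

variable {X S : Scheme.{u}} (f : X ⟶ S) [LocallyOfFinitePresentation f] [QuasiCompact f] [QuasiSeparated f]
  (F : X.Modules) [F.IsQuasicoherent]

theorem isLocallyConstructible_noEmb (hF : CohB1.IsFP F) : IsLocallyConstructible (locus NoEmb f F) :=
  have h := isGeneric_of_flat isFieldStable_noEmb fun f _ _ F => isConstructible_noEmb f F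
  isLocallyConstructible_locus isFieldStable_noEmb h.1 h.2 f F hF

theorem isLocallyConstructible_allDimIn (hF : CohB1.IsFP F) (Φ : Set ℕ) :
    IsLocallyConstructible (locus (AllDimIn Φ) f F) :=
  have h := isGeneric_of_flat (isFieldStable_allDimIn Φ) fun f _ _ F hF hfl => isConstructible_allDimIn f F hF hfl Φ
  isLocallyConstructible_locus (isFieldStable_allDimIn Φ) h.1 h.2 f F hF

theorem isLocallyConstructible_hasMinIn (hF : CohB1.IsFP F) (Φ : Set ℕ) :
    IsLocallyConstructible (locus (HasMinIn Φ) f F) :=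
  have h := isGeneric_of_flat (isFieldStable_hasMinIn Φ) fun f _ _ F hF hfl => isConstructible_hasMinIn f F hF hfl Φ
  isLocallyConstructible_locus (isFieldStable_hasMinIn Φ) h.1 h.2 f F hF

end Result

theorem exists_nat_dim_closure {X S : Scheme.{u}} (f : X ⟶ S) [LocallyOfFiniteType f] (s : S) (z : ↥(f.fiber s)) :
    ∃ n : ℕ, topologicalKrullDim ↥(closure ({z} : Set ↥(f.fiber s))) = (n : WithBot ℕ∞) := by
  haveI : LocallyOfFiniteType (f.fiberToSpecResidueField s) := MorphismProperty.pullback_snd f _ inferInstance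
  obtain ⟨n, hn, -⟩ := AffDom.exists_dim_closure (K := S.residueField s) (f.fiberToSpecResidueField s) z
  exact ⟨n, hn⟩

theorem isLocallyConstructible_compl {α : Type*} {T : Set α} [TopologicalSpace α] (h : IsLocallyConstructible T) :
    IsLocallyConstructible Tᶜ := fun x => by
  obtain ⟨U, hU, hUo, hc⟩ := h x
  exact ⟨U, hU, hUo, hc.compl⟩

/-- Finite intersection of locally constructible sets. -/
theorem isLocallyConstructible_biInter {α : Type*} [TopologicalSpace α] {ι : Type*} (Φ : Finset ι) {s : ι → Set α}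
    (h : ∀ i ∈ Φ, IsLocallyConstructible (s i)) : IsLocallyConstructible (⋂ i ∈ Φ, s i) :=
  by
    rw [← Finset.inf_set_eq_iInter]
    exact IsLocallyConstructible.finsetInf h

end GrothLib.FibModLocus10
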