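import Groth.Agent.Lib.ConsLim.Main
import Groth.Agent.Lib.ModDesc5.FlatStage
import Groth.Agent.Lib.FittSheaf.PullbackFP
import Groth.Agent.Lib.FibreBC.Basic
import Groth.Agent.Lib.FunMor20.CohInd

/-!
# Loci of fibrewise properties of a finitely presented module
-/

set_option autoImplicit false
set_option linter.all false
set_option backward.isDefEq.respectTransparency false
set_option maxHeartbeats 1000000

universe u

open CategoryTheory Limits AlgebraicGeometry Topology Set

noncomputable section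

namespace GrothLib.FibModLocus10

open GrothLib GrothLib.LimDescend

/-- The points over which the fibre of the module has the property. -/
def locus (P : ∀ ⦃Z : Scheme.{u}⦄, Z.Modules → Prop) {X S : Scheme.{u}} (f : X ⟶ S) (F : X.Modules) : Set S :=
  {s | P ((Scheme.Modules.pullback (f.fiberι s)).obj F)}

/-- Stability of a property of modules on schemes of finite type over fields under isomorphism and field extension. -/
def IsFieldStable (P : ∀ ⦃Z : Scheme.{u}⦄, Z.Modules → Prop) : Prop :=
  (∀ {Z : Scheme.{u}} {G G' : Z.Modules}, (G ≅ G') → P G → P G') ∧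
  ∀ {Z' Z : Scheme.{u}} {K K' : Type u} [Field K] [Field K'] (φ : K →+* K') (g' : Z' ⟶ Spec (CommRingCat.of K'))
    (g : Z ⟶ Spec (CommRingCat.of K)) (i : Z' ⟶ Z) [LocallyOfFiniteType g] [QuasiCompact g],
    IsPullback i g' g (Spec.map (CommRingCat.ofHom φ)) → ∀ (G : Z.Modules) [G.IsQuasicoherent], CohB1.IsFP G →
      (P ((Scheme.Modules.pullback i).obj G) ↔ P G)

/-- The property holds near the generic point as soon as it holds there. -/
def IsGeneric (P : ∀ ⦃Z : Scheme.{u}⦄, Z.Modules → Prop) : Prop :=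
  ∀ {X S : Scheme.{u}} [IsIntegral S] [IsNoetherian S] (f : X ⟶ S) [LocallyOfFiniteType f] [QuasiCompact f]
    (F : X.Modules) [F.IsQuasicoherent], CohB1.IsFP F →
      genericPoint S ∈ locus P f F → (interior (locus P f F)).Nonempty

variable {P : ∀ ⦃Z : Scheme.{u}⦄, Z.Modules → Prop}

theorem IsFieldStable.not (hP : IsFieldStable P) : IsFieldStable (fun Z G => ¬ P (Z := Z) G) :=
  ⟨fun e h h' => h (hP.1 e.symm h'),
    fun φ g' g i _ _ h G _ hG => not_congr (hP.2 φ g' g i h G hG)⟩

theorem mem_locus_iff (hP : IsFieldStable P) {X X' S T : Scheme.{u}} {u : X ⟶ S} [LocallyOfFiniteType u]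
    [QuasiCompact u] {u' : X' ⟶ T} {q : X' ⟶ X} {h : T ⟶ S} (hX : IsPullback q u' u h)
    {F : X.Modules} [F.IsQuasicoherent] (hF : CohB1.IsFP F) {F' : X'.Modules}
    (e : (Scheme.Modules.pullback q).obj F ≅ F') (t : T) :
    t ∈ locus P u' F' ↔ h t ∈ locus P u F := by
  obtain ⟨i, hi₁, hi⟩ := FibreBC.exists_isPullback_fiber hX t
  haveI := (ConsLim.finiteType_fiber u (h t)).1
  haveI := (ConsLim.finiteType_fiber u (h t)).2
  haveI := FittSheaf.isQuasicoherent_pullback (u.fiberι (h t)) F
  let e' : (Scheme.Modules.pullback i).obj ((Scheme.Modules.pullback (u.fiberι (h t))).obj F) ≅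
      (Scheme.Modules.pullback (u'.fiberι t)).obj F' :=
    (Scheme.Modules.pullbackComp i (u.fiberι (h t))).app F ≪≫ (Scheme.Modules.pullbackCongr hi₁).app F ≪≫
      ((Scheme.Modules.pullbackComp (u'.fiberι t) q).app F).symm ≪≫ (Scheme.Modules.pullback (u'.fiberι t)).mapIso e
  refine ⟨fun ht => ?_, fun ht => ?_⟩
  · exact (hP.2 (h.residueFieldMap t).hom _ _ i hi _ (FittSheaf.isFP_pullback _ F hF)).1 (hP.1 e'.symm ht)
  · exact hP.1 e' ((hP.2 (h.residueFieldMap t).hom _ _ i hi _ (FittSheaf.isFP_pullback _ F hF)).2 ht)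

theorem isIndConstructible_locus (hP : IsFieldStable P) (hgen : IsGeneric P) {X S : Scheme.{u}} (f : X ⟶ S)
    [LocallyOfFinitePresentation f] [QuasiCompact f] [QuasiSeparated f]
    (F : X.Modules) [F.IsQuasicoherent] (hF : CohB1.IsFP F) :
    ProCons.IsIndConstructible (locus P f F) := by
  refine ConsLim.isIndConstructible_of_affine _ fun V hV => ?_
  have hA := IsPullback.of_hasPullback f hV.fromSpec
  let FA := (Scheme.Modules.pullback (pullback.fst f hV.fromSpec)).obj F
  haveI := FittSheaf.isQuasicoherent_pullback (pullback.fst f hV.fromSpec) F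
  have hFA : CohB1.IsFP FA := FittSheaf.isFP_pullback _ F hF
  haveI : ∀ (i j : (FgSub Γ(S, V))ᵒᵖ) (φ : i ⟶ j), IsAffineHom ((fgDiagram Γ(S, V)).map φ) := inferInstance
  haveI : ∀ i, IsLocallyNoetherian ((fgDiagram Γ(S, V)).obj i) := fun i => inferInstance
  obtain ⟨i, M, G, hG, ⟨e⟩⟩ := ModDesc5.exists_stage_module (isLimitFgCone Γ(S, V))
    (f := (pullback.snd f hV.fromSpec : _ ⟶ (fgCone Γ(S, V)).pt)) FA hFA
  haveI := hG.1
  haveI := M.lfp
  haveI := M.qc
  haveI := M.qs
  haveI : IsNoetherian M.obj := by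
    haveI := LocallyOfFiniteType.isLocallyNoetherian M.hom
    haveI : CompactSpace M.obj := QuasiCompact.compactSpace_of_compactSpace M.hom
    exact ⟨⟩
  have hGFP : CohB1.IsFP G := FunMor20.isFP_of_isCoh hG
  have e₁ : hV.fromSpec ⁻¹' locus P f F = (fgCone Γ(S, V)).π.app i ⁻¹' locus P M.hom G := Set.ext fun t =>
    ((mem_locus_iff hP hA hF (Iso.refl FA) t).symm.trans (mem_locus_iff hP M.isPullback hGFP e t))
  rw [e₁]
  refine Constr.isIndConstructible_preimage _ (ConsLim.isIndConstructible_of_generic _ fun Z j _ _ _ hZ => ?_)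
  have hj := IsPullback.of_hasPullback M.hom j
  let GZ := (Scheme.Modules.pullback (pullback.fst M.hom j)).obj G
  haveI := FittSheaf.isQuasicoherent_pullback (pullback.fst M.hom j) G
  have e' : j ⁻¹' locus P M.hom G = locus P (pullback.snd M.hom j) GZ :=
    Set.ext fun t => (mem_locus_iff hP hj hGFP (Iso.refl GZ) t).symm
  rw [e'] at hZ ⊢
  exact hgen _ GZ (FittSheaf.isFP_pullback _ G hGFP) hZ

/-- A property which is field stable and generic together with its negation has constructible loci. -/
theorem isLocallyConstructible_locus (hP : IsFieldStable P) (hgen : IsGeneric P)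
    (hgen' : IsGeneric (fun Z G => ¬ P (Z := Z) G)) {X S : Scheme.{u}} (f : X ⟶ S)
    [LocallyOfFinitePresentation f] [QuasiCompact f] [QuasiSeparated f]
    (F : X.Modules) [F.IsQuasicoherent] (hF : CohB1.IsFP F) :
    IsLocallyConstructible (locus P f F) :=
  ConsLim.isLocallyConstructible_of_ind (isIndConstructible_locus hP hgen f F hF)
    (isIndConstructible_locus hP.not hgen' f F hF)

end GrothLib.FibModLocus10
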