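import Groth.Agent.Lib.FibModLocus10.Basic
import Groth.Agent.Lib.CritMod6.Main
import Groth.Agent.Lib.RhoShBig.Free
import Groth.Agent.Lib.FTDesc.LocFree
import Groth.Agent.Lib.GenFree.Sheaf
import Groth.Agent.Lib.ConsLim.Pair

/-!
# The locus of fibres on which a module is locally free
-/

set_option autoImplicit false
set_option linter.all false
set_option backward.isDefEq.respectTransparency false
set_option backward.isDefEq.respectTransparency.types false
set_option maxHeartbeats 1000000

universe u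

open CategoryTheory Limits AlgebraicGeometry Topology Set
open scoped TensorProduct

noncomputable section

namespace GrothLib.FibModLocus10

/-- The stalks are free with rank in a given set. -/
def StalkFree (R : Set ℕ) {Z : Scheme.{u}} (G : Z.Modules) (z : Z) : Prop :=
  Module.Free (Z.presheaf.stalk z) (G.presheaf.stalk z) ∧
    Module.finrank (Z.presheaf.stalk z) (G.presheaf.stalk z) ∈ R

/-- All stalks are free with rank in a given set. -/
def AllFree (R : Set ℕ) : ∀ ⦃Z : Scheme.{u}⦄, Z.Modules → Prop := fun Z G => ∀ z : Z, StalkFree R G z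

variable {R : Set ℕ}

theorem exists_frame_of_free {Z : Scheme.{u}} {G : Z.Modules} [G.IsQuasicoherent] (hG : CohB1.IsFP G) {z : Z}
    (h : Module.Free (Z.presheaf.stalk z) (G.presheaf.stalk z)) :
    ∃ (U : Z.Opens) (n : ℕ) (e : Fin n → Γ(G, U)), z ∈ U ∧ FinCov.IsFrame G U e := by
  haveI := CritMod6.finitePresentation_stalk G hG z
  obtain ⟨U, n, hzU, ⟨φ⟩⟩ := RhoShBig.exists_free_nhd_of_stalk G hG z h inferInstance
  obtain ⟨e, he⟩ := FinCov.exists_frame_of_iso φ
  exact ⟨_, n, e, by rw [Scheme.Opens.ι_image_top]; exact hzU, he⟩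

theorem stalkFree_of_frame {Z : Scheme.{u}} {G : Z.Modules} {U : Z.Opens} {n : ℕ} {e : Fin n → Γ(G, U)}
    (he : FinCov.IsFrame G U e) {z : Z} (hz : z ∈ U) :
    Module.Free (Z.presheaf.stalk z) (G.presheaf.stalk z) ∧
      Module.finrank (Z.presheaf.stalk z) (G.presheaf.stalk z) = n := by
  let φ := LinearEquiv.ofBijective _ (Ref1.stalk_of_isFrame he z hz)
  refine ⟨Module.Free.of_equiv φ, ?_⟩
  rw [← φ.finrank_eq, Module.finrank_pi, Fintype.card_fin]

theorem isFinLocFree_iff {Z : Scheme.{u}} {G : Z.Modules} [G.IsQuasicoherent] (hG : CohB1.IsFP G) :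
    FlatMod.IsFinLocFree G ↔ AllFree Set.univ G := by
  refine ⟨fun h z => ?_, fun h z => ?_⟩
  · obtain ⟨U, n, e, hzU, he⟩ := FinCov.exists_frame_nhd h z
    exact ⟨(stalkFree_of_frame he hzU).1, trivial⟩
  · obtain ⟨U, n, e, hzU, he⟩ := exists_frame_of_free hG (h z).1
    exact ⟨U, n, hzU, FinCov.exists_iso_of_frame he⟩

theorem isFinLocFreeOfRank_iff {Z : Scheme.{u}} {G : Z.Modules} [G.IsQuasicoherent] (hG : CohB1.IsFP G) (r : ℕ) :
    FlatMod.IsFinLocFreeOfRank r G ↔ AllFree {r} G := by
  refine ⟨fun h z => ?_, fun h z => ?_⟩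
  · obtain ⟨U, e, hzU, he⟩ := FinCov.exists_frame_nhd_of_rank h z
    exact stalkFree_of_frame he hzU
  · obtain ⟨U, n, e, hzU, he⟩ := exists_frame_of_free hG (h z).1
    have hn : n = r := (stalkFree_of_frame he hzU).2.symm.trans (h z).2
    subst hn
    exact ⟨U, hzU, FinCov.exists_iso_of_frame he⟩

theorem isOpen_stalkFree {Z : Scheme.{u}} {G : Z.Modules} [G.IsQuasicoherent] (hG : CohB1.IsFP G) :
    IsOpen {z | StalkFree R G z} := by
  refine isOpen_iff_forall_mem_open.2 fun z hz => ?_
  obtain ⟨U, n, e, hzU, he⟩ := exists_frame_of_free hG hz.1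
  refine ⟨U, fun y hy => ⟨(stalkFree_of_frame he hy).1, ?_⟩, U.isOpen, hzU⟩
  rw [(stalkFree_of_frame he hy).2, ← (stalkFree_of_frame he hzU).2]
  exact hz.2

theorem finrank_pullback {Z' Z : Scheme.{u}} (g : Z' ⟶ Z) (G : Z.Modules) (z : Z')
    (h : Module.Free (Z.presheaf.stalk (g z)) (G.presheaf.stalk (g z))) :
    Module.finrank (Z'.presheaf.stalk z) (((Scheme.Modules.pullback g).obj G).presheaf.stalk z) =
      Module.finrank (Z.presheaf.stalk (g z)) (G.presheaf.stalk (g z)) := by
  let B := Z.presheaf.stalk (g z)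
  let S := Z'.presheaf.stalk z
  let : Algebra B S := (g.stalkMap z).hom.toAlgebra
  let e : ((Scheme.Modules.pullback g).obj G).presheaf.stalk z ≃ₗ[S] S ⊗[B] G.presheaf.stalk (g z) :=
    ((OX.pullStalkIso g z).app G).toLinearEquiv
  exact e.finrank_eq.trans (Module.finrank_baseChange (R := S) (S := B) (M' := G.presheaf.stalk (g z)))

theorem stalkFree_pullback {Z' Z : Scheme.{u}} (g : Z' ⟶ Z) (G : Z.Modules) (z : Z') (h : StalkFree R G (g z)) :
    StalkFree R ((Scheme.Modules.pullback g).obj G) z := by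
  refine ⟨?_, by rw [finrank_pullback g G z h.1]; exact h.2⟩
  let B := Z.presheaf.stalk (g z)
  let S := Z'.presheaf.stalk z
  let : Algebra B S := (g.stalkMap z).hom.toAlgebra
  let e : ((Scheme.Modules.pullback g).obj G).presheaf.stalk z ≃ₗ[S] S ⊗[B] G.presheaf.stalk (g z) :=
    ((OX.pullStalkIso g z).app G).toLinearEquiv
  haveI := h.1
  exact Module.Free.of_equiv e.symm

theorem stalkFree_of_iso {Z : Scheme.{u}} {G G' : Z.Modules} (e : G ≅ G') {z : Z} (h : StalkFree R G z) :
    StalkFree R G' z := by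
  let η : G.presheaf.stalk z ≃ₗ[Z.presheaf.stalk z] G'.presheaf.stalk z :=
    ((OX.stalk z).mapIso e).toLinearEquiv
  haveI := h.1
  exact ⟨Module.Free.of_equiv η, by rw [← η.finrank_eq]; exact h.2⟩

theorem isFieldStable_allFree (R : Set ℕ) : IsFieldStable (AllFree.{u} R) := by
  refine ⟨fun e h z => stalkFree_of_iso e (h z), ?_⟩
  intro Z' Z K K' _ _ φ g' g i _ _ sq G _ hG
  haveI : Flat (Spec.map (CommRingCat.ofHom φ)) := by
    letI := φ.toAlgebra
    exact Flat.SpecMap_iff.2 (RingHom.flat_algebraMap_iff.2 (inferInstance : Module.Flat K K'))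
  haveI : Flat i := MorphismProperty.of_isPullback sq.flip inferInstance
  haveI : Surjective (Spec.map (CommRingCat.ofHom φ)) :=
    ⟨fun p => ⟨(default : PrimeSpectrum K'), Subsingleton.elim (α := PrimeSpectrum K) _ _⟩⟩
  haveI : Surjective i := MorphismProperty.of_isPullback sq.flip inferInstance
  refine ⟨fun h z => ?_, fun h z => stalkFree_pullback i G z (h _)⟩
  obtain ⟨z', rfl⟩ := i.surjective z
  haveI := CritMod6.finitePresentation_stalk G hG (i z')
  haveI := (h z').1
  obtain ⟨hfree, hrank⟩ := FTDesc.stalk_free_of_pullback i G z'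
  exact ⟨hfree, hrank ▸ (h z').2⟩

variable {X S : Scheme.{u}} [IsIntegral S] [IsNoetherian S] (f : X ⟶ S) [LocallyOfFiniteType f] [QuasiCompact f]
  (F : X.Modules) [F.IsQuasicoherent]

theorem exists_locus_eq (hF : CohB1.IsFP F) (R : Set ℕ) :
    ∃ (U : S.Opens) (E : Set S), (U : Set S).Nonempty ∧ IsConstructible E ∧
      ∀ s ∈ U, (s ∈ locus (AllFree R) f F ↔ s ∈ E) := by
  haveI : IsLocallyNoetherian X := LocallyOfFiniteType.isLocallyNoetherian f
  haveI : CompactSpace X := QuasiCompact.compactSpace_of_compactSpace f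
  haveI : IsNoetherian X := ⟨⟩
  haveI : LocallyOfFinitePresentation f := inferInstance
  haveI : LocallyOfFinitePresentation (𝟙 X ≫ f) := by rw [Category.id_comp]; infer_instance
  have hFT : CohB1.IsFT F := (QCoh.isFiniteType_iff_moduleFinite _).2 fun U hU => by
    haveI := FlatFP.finitePresentation_sections F hF hU
    infer_instance
  obtain ⟨U, hUne, hU⟩ := GenFree.exists_isFlatOverAt f F hFT
  let N : Set X := {x | StalkFree R F x}ᶜ
  have hN : IsConstructible N :=
    ((TopologicalSpace.NoetherianSpace.isCompact _).isConstructible (isOpen_stalkFree hF)).compl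
  refine ⟨U, (f '' N)ᶜ, hUne, (f.isConstructible_image hN).compl, fun s hs => ?_⟩
  have key : ∀ z : f.fiber s, StalkFree R ((Scheme.Modules.pullback (f.fiberι s)).obj F) z ↔
      StalkFree R F (f.fiberι s z) := by
    intro z
    refine ⟨fun hz => ?_, stalkFree_pullback _ F z⟩
    haveI := FittSheaf.isQuasicoherent_pullback (f.fiberι s) F
    have hc : IsPullback (f.fiberι s) (f.fiberToSpecResidueField s) f (S.fromSpecResidueField s) :=
      IsPullback.of_hasPullback _ _
    have hfl : FlatMod.IsFlatOverAt (𝟙 X ≫ f) F (f.fiberι s z) :=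
      (FunFlat6.isFlatOverAt_congr_map (Category.id_comp f).symm F _).mp (hU _ (by
        show f (f.fiberι s z) ∈ U
        rw [FibreFlat.fiberι_comp_apply]; exact hs))
    have hfree : Module.Free (X.presheaf.stalk (f.fiberι s z)) (F.presheaf.stalk (f.fiberι s z)) := by
      rw [← CritMod6.isFlatOverAt_id_iff_free F hF (f.fiberι s z)]
      exact (CritMod6.isFlatOverAt_baseChange_iff (𝟙 X) f F hF (S.fromSpecResidueField s)
        (f.fiberι s) (f.fiberToSpecResidueField s) hc (f.fiberι s) (𝟙 _)
        (by rw [Category.id_comp, Category.id_comp]; exact hc) (by simp) z hfl).1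
          ((CritMod6.isFlatOverAt_id_iff_free _ (FittSheaf.isFP_pullback (f.fiberι s) F hF) z).2 hz.1)
    exact ⟨hfree, by rw [← finrank_pullback (f.fiberι s) F z hfree]; exact hz.2⟩
  constructor
  · rintro h ⟨x, hx, hfx⟩
    obtain ⟨z, rfl⟩ : x ∈ Set.range (f.fiberι s) := by rw [f.range_fiberι]; exact hfx
    exact hx ((key z).1 (h z))
  · intro h z
    refine (key z).2 ?_
    by_contra hz
    exact h ⟨_, hz, (f.range_fiberι s).le ⟨z, rfl⟩⟩

theorem interior_nonempty_of_eq {T : Set S} {U : S.Opens} {E : Set S} (hne : (U : Set S).Nonempty)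
    (hE : IsConstructible E) (h : ∀ s ∈ U, (s ∈ T ↔ s ∈ E)) (hη : genericPoint S ∈ T) : (interior T).Nonempty := by
  have hηU : genericPoint S ∈ U := ((genericPoint_spec S).mem_open_set_iff U.isOpen).2 (by simpa using hne)
  obtain ⟨y, hy⟩ := ConsLim.interior_nonempty_of_genericPoint_mem hE ((h _ hηU).1 hη)
  refine ⟨genericPoint S, mem_interior.2 ⟨(U : Set S) ∩ interior E, fun s hs => (h s hs.1).2 (interior_subset hs.2),
    U.isOpen.inter isOpen_interior, hηU, (genericPoint_specializes y).mem_open isOpen_interior hy⟩⟩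

theorem isGeneric_allFree (R : Set ℕ) : IsGeneric (AllFree.{u} R) ∧ IsGeneric (fun Z G => ¬ AllFree.{u} R (Z := Z) G) := by
  constructor
  · intro X S _ _ f _ _ F _ hF hη
    obtain ⟨U, E, hne, hE, h⟩ := exists_locus_eq f F hF R
    exact interior_nonempty_of_eq hne hE h hη
  · intro X S _ _ f _ _ F _ hF hη
    obtain ⟨U, E, hne, hE, h⟩ := exists_locus_eq f F hF R
    exact interior_nonempty_of_eq hne hE.compl (fun s hs => not_congr (h s hs)) hη

theorem isLocallyConstructible_allFree {X S : Scheme.{u}} (f : X ⟶ S)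
    [LocallyOfFinitePresentation f] [QuasiCompact f] [QuasiSeparated f]
    (F : X.Modules) [F.IsQuasicoherent] (hF : CohB1.IsFP F) (R : Set ℕ) :
    IsLocallyConstructible (locus (AllFree R) f F) :=
  isLocallyConstructible_locus (isFieldStable_allFree R) (isGeneric_allFree R).1 (isGeneric_allFree R).2 f F hF

theorem isLocallyConstructible_isFinLocFree {X S : Scheme.{u}} (f : X ⟶ S)
    [LocallyOfFinitePresentation f] [QuasiCompact f] [QuasiSeparated f]
    (F : X.Modules) [F.IsQuasicoherent] (hF : CohB1.IsFP F) :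
    IsLocallyConstructible {s : S | FlatMod.IsFinLocFree ((Scheme.Modules.pullback (f.fiberι s)).obj F)} := by
  convert isLocallyConstructible_allFree f F hF Set.univ using 1
  ext s
  haveI := FittSheaf.isQuasicoherent_pullback (f.fiberι s) F
  exact isFinLocFree_iff (FittSheaf.isFP_pullback _ F hF)

theorem isLocallyConstructible_isFinLocFreeOfRank {X S : Scheme.{u}} (f : X ⟶ S)
    [LocallyOfFinitePresentation f] [QuasiCompact f] [QuasiSeparated f]
    (F : X.Modules) [F.IsQuasicoherent] (hF : CohB1.IsFP F) (n : ℕ) :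
    IsLocallyConstructible {s : S | FlatMod.IsFinLocFreeOfRank n ((Scheme.Modules.pullback (f.fiberι s)).obj F)} := by
  convert isLocallyConstructible_allFree f F hF {n} using 1
  ext s
  haveI := FittSheaf.isQuasicoherent_pullback (f.fiberι s) F
  exact isFinLocFreeOfRank_iff (FittSheaf.isFP_pullback _ F hF) n

end GrothLib.FibModLocus10
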