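import Groth.Agent.Lib.FibModLocus10.AssLoci
import Groth.Agent.Lib.FibClos.Conseq
import Groth.Agent.Lib.NoethTop.Constructible
import Groth.Agent.Lib.QCoh.SupportPullback
import Groth.Agent.Lib.AssTensor3.Points

/-!
# Torsion and torsion-free fibres
-/

set_option autoImplicit false
set_option linter.all false
set_option backward.isDefEq.respectTransparency false
set_option maxHeartbeats 1000000

universe u

open CategoryTheory Limits AlgebraicGeometry Topology Set TopologicalSpace IsLocalRing
open scoped Set.Notation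

noncomputable section

namespace GrothLib.FibModLocus10

theorem torsion_eq_top_iff {R M : Type u} [CommRing R] [IsDomain R] [IsNoetherianRing R] [AddCommGroup M] [Module R M] :
    Submodule.torsion R M = ⊤ ↔ (⊥ : Ideal R) ∉ associatedPrimes R M := by
  constructor
  · intro h hP
    obtain ⟨-, x, hx⟩ := isAssociatedPrime_iff.1 hP
    obtain ⟨a, ha⟩ : x ∈ Submodule.torsion R M := h ▸ Submodule.mem_top
    have : (a : R) ∈ (⊥ : Ideal R) := by
      rw [hx, Submodule.mem_colon_singleton, Submodule.mem_bot]; exact ha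
    exact nonZeroDivisors.coe_ne_zero a (Ideal.mem_bot.1 this)
  · intro h
    refine eq_top_iff.2 fun x _ => ?_
    by_contra hx
    refine h (isAssociatedPrime_iff.2 ⟨Ideal.isPrime_bot, x, ?_⟩)
    ext a
    rw [Ideal.mem_bot, Submodule.mem_colon_singleton, Submodule.mem_bot]
    refine ⟨fun ha => by rw [ha, zero_smul], fun ha => ?_⟩
    by_contra ha0
    exact hx ⟨⟨a, mem_nonZeroDivisors_of_ne_zero ha0⟩, ha⟩

theorem torsion_eq_bot_iff {R M : Type u} [CommRing R] [IsDomain R] [IsNoetherianRing R] [AddCommGroup M] [Module R M] :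
    Submodule.torsion R M = ⊥ ↔ ∀ P ∈ associatedPrimes R M, P = ⊥ := by
  constructor
  · intro h P hP
    obtain ⟨hPp, x, hx⟩ := isAssociatedPrime_iff.1 hP
    by_contra hne
    obtain ⟨a, ha, ha0⟩ := Submodule.exists_mem_ne_zero_of_ne_bot hne
    have hax : a • x = 0 := by
      rw [hx, Submodule.mem_colon_singleton, Submodule.mem_bot] at ha; exact ha
    have : x ∈ (⊥ : Submodule R M) := h ▸ (⟨⟨a, mem_nonZeroDivisors_of_ne_zero ha0⟩, hax⟩ : x ∈ Submodule.torsion R M)
    have h1 : (1 : R) ∈ P := by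
      rw [hx, Submodule.mem_colon_singleton, Submodule.mem_bot, one_smul]
      exact (Submodule.mem_bot R).1 this
    exact hPp.ne_top ((Ideal.eq_top_iff_one P).2 h1)
  · intro h
    refine eq_bot_iff.2 fun x hx => ?_
    obtain ⟨a, ha⟩ := hx
    by_contra hx0
    obtain ⟨P, hP, hle⟩ := exists_le_isAssociatedPrime_of_isNoetherianRing R x (fun h0 => hx0 ((Submodule.mem_bot R).2 h0))
    have : (a : R) ∈ P := hle (by rw [Submodule.mem_colon_singleton, Submodule.mem_bot]; exact ha)
    exact nonZeroDivisors.coe_ne_zero a (Ideal.mem_bot.1 (h P hP ▸ this))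

section Local

variable {W : Scheme.{u}} [IsLocallyNoetherian W] [hd : ∀ x : W, IsDomain (W.presheaf.stalk x)] (G : W.Modules)
  [G.IsQuasicoherent]

/-- A point is maximal if it has no proper generalisation. -/
def IsMaxPt (z : W) : Prop := ∀ z' : W, z' ⤳ z → z' = z

theorem fromSpecStalk_bot_specializes (x : W) {z : W} (h : z ⤳ x) :
    W.fromSpecStalk x ⟨⊥, Ideal.isPrime_bot⟩ ⤳ z := by
  obtain ⟨q, rfl⟩ := AssTensor3.exists_of_specializes h
  exact ((PrimeSpectrum.le_iff_specializes _ q).1 bot_le).map (W.fromSpecStalk x).continuous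

theorem isMaxPt_fromSpecStalk_bot (x : W) : IsMaxPt (W.fromSpecStalk x ⟨⊥, Ideal.isPrime_bot⟩) := fun z hz =>
  (hz.antisymm (fromSpecStalk_bot_specializes x (hz.trans (AssTensor3.fromSpecStalk_specializes x _)))).eq

theorem fromSpecStalk_eq_bot_iff (x : W) (q : PrimeSpectrum (W.presheaf.stalk x)) :
    IsMaxPt (W.fromSpecStalk x q) ↔ q.asIdeal = ⊥ := by
  refine ⟨fun h => ?_, fun h => ?_⟩
  · have := h _ (fromSpecStalk_bot_specializes x (AssTensor3.fromSpecStalk_specializes x q))
    exact (congrArg PrimeSpectrum.asIdeal ((W.fromSpecStalk x).isEmbedding.injective this)).symm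
  · obtain rfl : q = ⟨⊥, Ideal.isPrime_bot⟩ := PrimeSpectrum.ext h
    exact isMaxPt_fromSpecStalk_bot x

theorem forall_torsion_eq_bot_iff :
    (∀ x : W, Submodule.torsion (W.presheaf.stalk x) (G.presheaf.stalk x) = ⊥) ↔ ∀ z ∈ AssSch.Ass G, IsMaxPt z := by
  refine ⟨fun h z hz => ?_, fun h x => torsion_eq_bot_iff.2 fun P hP => ?_⟩
  · obtain ⟨q, hq⟩ := AssTensor3.exists_of_specializes (specializes_rfl (x := z))
    have hz' : W.fromSpecStalk z q ∈ AssSch.Ass G := by rw [hq]; exact hz
    rw [← hq]
    exact (fromSpecStalk_eq_bot_iff z q).2 (torsion_eq_bot_iff.1 (h z) _ ((AssTensor3.fromSpecStalk_mem_ass_iff G z q).1 hz'))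
  · exact (fromSpecStalk_eq_bot_iff x ⟨P, hP.isPrime⟩).1 (h _ ((AssTensor3.fromSpecStalk_mem_ass_iff G x _).2 hP))

theorem forall_torsion_eq_top_iff :
    (∀ x : W, Submodule.torsion (W.presheaf.stalk x) (G.presheaf.stalk x) = ⊤) ↔ ∀ z ∈ AssSch.Ass G, ¬ IsMaxPt z := by
  refine ⟨fun h z hz hmax => ?_, fun h x => torsion_eq_top_iff.2 fun hP => ?_⟩
  · obtain ⟨q, hq⟩ := AssTensor3.exists_of_specializes (specializes_rfl (x := z))
    have hz' : W.fromSpecStalk z q ∈ AssSch.Ass G := by rw [hq]; exact hz
    have hq0 : q.asIdeal = ⊥ := (fromSpecStalk_eq_bot_iff z q).1 (by rw [hq]; exact hmax)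
    exact torsion_eq_top_iff.1 (h z) (hq0 ▸ (AssTensor3.fromSpecStalk_mem_ass_iff G z q).1 hz')
  · exact h _ ((AssTensor3.fromSpecStalk_mem_ass_iff G x ⟨⊥, Ideal.isPrime_bot⟩).2 hP) (isMaxPt_fromSpecStalk_bot x)

variable [CompactSpace W] (hG : Coh.IsCoh G)
include hG

theorem ass_of_isMaxPt {η : W} (hη : IsMaxPt η) (h : η ∈ CohB1.support G) : η ∈ AssSch.Ass G := by
  obtain ⟨z, hz, hsp⟩ := AssPts.exists_ass_specializes G hG h
  exact hη z hsp ▸ hz

omit hd in
theorem mem_support_of_ass {z : W} (hz : z ∈ AssSch.Ass G) : z ∈ CohB1.support G :=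
  AssPts.mem_support_of_isAssPoint _ hz

omit hd in
theorem mem_of_isMaxPt_of_dense {C : Set W} (hC : IsOpen C) (hd : Dense C) {η : W} (hη : IsMaxPt η) : η ∈ C := by
  haveI : IsNoetherian W := ⟨⟩
  haveI : QuasiSober ↥C := hC.isOpenEmbedding_subtypeVal.quasiSober
  haveI : NoetherianSpace ↥C := NoetherianSpace.set _
  have hfin : (Subtype.val '' genericPoints ↥C).Finite := (genericPoints.finite NoetherianSpace.finite_irreducibleComponents).image _
  have hsub : C ⊆ closure (Subtype.val '' genericPoints ↥C) := fun c hc => by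
    obtain ⟨g, hg, hsp⟩ := CurveModel.exists_genericPoints_specializes (⟨c, hc⟩ : ↥C)
    exact closure_mono (Set.singleton_subset_iff.2 (show g.1 ∈ Subtype.val '' genericPoints ↥C from ⟨g, hg, rfl⟩))
      (specializes_iff_mem_closure.1 (hsp.map continuous_subtype_val))
  have hall : η ∈ closure (Subtype.val '' genericPoints ↥C) :=
    closure_minimal hsub isClosed_closure (hd η)
  rw [show closure (Subtype.val '' genericPoints ↥C) = ⋃ g ∈ Subtype.val '' genericPoints ↥C, closure {g} by
    rw [← hfin.closure_biUnion, Set.biUnion_of_singleton]] at hall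
  obtain ⟨g, hg, hge⟩ := Set.mem_iUnion₂.1 hall
  obtain ⟨g', -, rfl⟩ := hg
  exact hη _ (specializes_iff_mem_closure.2 hge) ▸ g'.2

theorem forall_not_isMaxPt_iff_dense :
    (∀ z ∈ AssSch.Ass G, ¬ IsMaxPt z) ↔ Dense (CohB1.support G)ᶜ := by
  have hcl : IsClosed (CohB1.support G) := QCoh.isClosed_support G hG.2
  refine ⟨fun h x => ?_, fun h z hz hmax => mem_of_isMaxPt_of_dense G hG hcl.isOpen_compl h hmax (mem_support_of_ass G hG hz)⟩
  refine closure_mono (Set.singleton_subset_iff.2 ?_)
    (specializes_iff_mem_closure.1 (AssTensor3.fromSpecStalk_specializes x ⟨⊥, Ideal.isPrime_bot⟩))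
  exact fun hs => h _ (ass_of_isMaxPt G hG (isMaxPt_fromSpecStalk_bot x) hs) (isMaxPt_fromSpecStalk_bot x)

theorem forall_isMaxPt_iff :
    (∀ z ∈ AssSch.Ass G, IsMaxPt z) ↔ AssSch.NoEmbedded G ∧ IsOpen (CohB1.support G) := by
  have hcl : IsClosed (CohB1.support G) := QCoh.isClosed_support G hG.2
  haveI : IsNoetherian W := ⟨⟩
  constructor
  · intro h
    refine ⟨fun z hz z' hz' hsp => (h z hz z' hsp).symm, NoethTop.isOpen_of_stableUnderGeneralization
      ((NoetherianSpace.isCompact _).isConstructible hcl.isOpen_compl |>.compl |> fun hc => by rwa [compl_compl] at hc) ?_⟩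
    intro z z' hsp hz
    obtain ⟨w, hw, hwz⟩ := AssPts.exists_ass_specializes G hG hz
    obtain ⟨q, rfl⟩ := AssTensor3.exists_of_specializes hwz
    have hb : q = ⟨⊥, Ideal.isPrime_bot⟩ := PrimeSpectrum.ext ((fromSpecStalk_eq_bot_iff z q).1 (h _ hw))
    subst hb
    exact (fromSpecStalk_bot_specializes z hsp).mem_closed hcl (mem_support_of_ass G hG hw)
  · rintro ⟨hne, hop⟩ z hz z' hsp
    have hηz := fromSpecStalk_bot_specializes z (specializes_rfl (x := z))
    have hη := ass_of_isMaxPt G hG (isMaxPt_fromSpecStalk_bot z) (hηz.mem_open hop (mem_support_of_ass G hG hz))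
    have hmax : IsMaxPt z := by rw [hne z hz _ hη hηz]; exact isMaxPt_fromSpecStalk_bot z
    exact hmax z' hsp

end Local

section Loci

variable {X S : Scheme.{u}} [IsLocallyNoetherian S] (f : X ⟶ S) [LocallyOfFiniteType f] [QuasiCompact f]
  (F : X.Modules) [F.IsQuasicoherent]

theorem isCoh_of_isFP (hF : CohB1.IsFP F) : Coh.IsCoh F :=
  ⟨inferInstance, (QCoh.isFiniteType_iff_moduleFinite _).2 fun U hU => by
    haveI := FlatFP.finitePresentation_sections F hF hU
    infer_instance⟩

omit [IsLocallyNoetherian S] [LocallyOfFiniteType f] [QuasiCompact f] in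
theorem isLocallyConstructible_support [IsLocallyNoetherian X] (hF : CohB1.IsFP F) :
    IsLocallyConstructible (CohB1.support F) := by
  have hcl : IsClosed (CohB1.support F) := QCoh.isClosed_support F (isCoh_of_isFP F hF).2
  intro x
  obtain ⟨V, hV, hxV, -⟩ := exists_isAffineOpen_mem_and_subset (show x ∈ (⊤ : X.Opens) from trivial)
  refine ⟨V, V.isOpen.mem_nhds hxV, V.isOpen, ?_⟩
  haveI : IsLocallyNoetherian (V : Scheme.{u}) := inferInstance
  haveI : CompactSpace (V : Scheme.{u}) := isCompact_iff_compactSpace.1 hV.isCompact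
  haveI : IsNoetherian (V : Scheme.{u}) := ⟨⟩
  haveI : NoetherianSpace ↥(V : Set X) := (inferInstance : NoetherianSpace (V : Scheme.{u}))
  rw [← compl_compl (((V : Set X)) ↓∩ CohB1.support F)]
  exact ((NoetherianSpace.isCompact _).isConstructible (hcl.preimage continuous_subtype_val).isOpen_compl).compl

theorem isLocallyConstructible_torsion (hF : CohB1.IsFP F)
    (hint : ∀ (s : S) (x : ↥(f.fiber s)), IsDomain ((f.fiber s).presheaf.stalk x)) :
    IsLocallyConstructible {s : S | ∀ x : ↥(f.fiber s),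
      Submodule.torsion ((f.fiber s).presheaf.stalk x) (((Scheme.Modules.pullback (f.fiberι s)).obj F).presheaf.stalk x) = ⊤} ∧
    IsLocallyConstructible {s : S | ∀ x : ↥(f.fiber s),
      Submodule.torsion ((f.fiber s).presheaf.stalk x) (((Scheme.Modules.pullback (f.fiberι s)).obj F).presheaf.stalk x) = ⊥} := by
  haveI : IsLocallyNoetherian X := LocallyOfFiniteType.isLocallyNoetherian f
  haveI : LocallyOfFinitePresentation f := inferInstance
  haveI : QuasiSeparated f := inferInstance
  have hN := isLocallyConstructible_support F hF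
  have hC := isLocallyConstructible_compl hN
  have hCoh := isCoh_of_isFP F hF
  refine ⟨?_, ?_⟩
  · convert FibClos.isLocallyConstructible_setOf_subset_closure f hC (IsLocallyConstructible.univ (X := X)) using 1
    ext s
    haveI := hint s
    haveI := (ConsLim.finiteType_fiber f s).1
    haveI := (ConsLim.finiteType_fiber f s).2
    haveI : IsLocallyNoetherian (f.fiber s) := LocallyOfFiniteType.isLocallyNoetherian (f.fiberToSpecResidueField s)
    haveI : CompactSpace (f.fiber s) := QuasiCompact.compactSpace_of_compactSpace (f.fiberToSpecResidueField s)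
    haveI := FittSheaf.isQuasicoherent_pullback (f.fiberι s) F
    let Gc := isCoh_of_isFP _ (FittSheaf.isFP_pullback (f.fiberι s) F hF)
    refine ((forall_torsion_eq_top_iff _).trans (forall_not_isMaxPt_iff_dense _ Gc)).trans ?_
    rw [QCoh.support_pullback _ F hCoh, ← Set.preimage_compl, dense_iff_closure_eq,
      (f.fiberι s).isEmbedding.isInducing.closure_eq_preimage_closure_image, Set.image_preimage_eq_inter_range,
      Set.preimage_eq_univ_iff, f.range_fiberι]
    simp only [Set.univ_inter, Set.mem_setOf_eq]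
  · convert (isLocallyConstructible_noEmb f F hF).inter (FibClos.isLocallyConstructible_setOf_isOpen f hN) using 1
    ext s
    haveI := hint s
    haveI := (ConsLim.finiteType_fiber f s).1
    haveI := (ConsLim.finiteType_fiber f s).2
    haveI : IsLocallyNoetherian (f.fiber s) := LocallyOfFiniteType.isLocallyNoetherian (f.fiberToSpecResidueField s)
    haveI : CompactSpace (f.fiber s) := QuasiCompact.compactSpace_of_compactSpace (f.fiberToSpecResidueField s)
    haveI := FittSheaf.isQuasicoherent_pullback (f.fiberι s) F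
    let Gc := isCoh_of_isFP _ (FittSheaf.isFP_pullback (f.fiberι s) F hF)
    refine ((forall_torsion_eq_bot_iff _).trans (forall_isMaxPt_iff _ Gc)).trans (and_congr_right fun _ => ?_)
    rw [QCoh.support_pullback _ F hCoh]
    exact (f.fiberHomeo s).isOpen_preimage (s := (Subtype.val ⁻¹' CohB1.support F : Set ↥(f ⁻¹' {s})))

end Loci

end GrothLib.FibModLocus10
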